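import Groth.Agent.L17.AutFac.Factor
import Groth.Agent.L08.FactorLocus
import Groth.Prelude.Def_AutSch

/-!
# The locus of automorphisms which descend along a fibration

For a proper `f : X ⟶ Y` over a field with `f_* O = O` and an action of `G` on `X`, the points of `G` whose
automorphisms descend to automorphisms of `Y` form a closed subscheme.
-/

set_option autoImplicit false
set_option linter.style.haveILetI false
set_option backward.isDefEq.respectTransparency.types false

universe u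

open CategoryTheory CategoryTheory.Limits MonoidalCategory CartesianMonoidalCategory MonObj GrpObj AlgebraicGeometry
open Groth.L02.SchDom

noncomputable section

namespace Groth.L17.AutFac


section Act

variable {S : Scheme.{u}} {X G : Over S} [GrpObj G] (a : AlgGrp.Action G X)

theorem famOf_one (T : Over S) : AutSch.famOf a (1 : T ⟶ G) = fst X T := by
  have h : lift (snd X T ≫ (1 : T ⟶ G)) (fst X T) = lift (toUnit (X ⊗ T)) (fst X T) ≫ (η[G] ▷ X) := by
    apply CartesianMonoidalCategory.hom_ext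
    · simp [Hom.one_def]
    · simp
  rw [AutSch.famOf, h, Category.assoc, a.one_act]
  simp

theorem endOf_comp {T : Over S} (g g' : T ⟶ G) :
    AutSch.endOf (AutSch.famOf a g) ≫ AutSch.endOf (AutSch.famOf a g') = AutSch.endOf (AutSch.famOf a (g' * g)) := by
  apply CartesianMonoidalCategory.hom_ext
  · rw [Category.assoc, AutSch.endOf_fst, AutSch.endOf_fst]
    have e : lift (lift (snd X T ≫ g') (snd X T ≫ g)) (fst X T) ≫ (μ[G] ▷ X) =
        lift (snd X T ≫ (g' * g)) (fst X T) := by
      apply CartesianMonoidalCategory.hom_ext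
      · simp [Hom.mul_def, comp_lift_assoc]
      · simp
    conv_rhs => rw [AutSch.famOf, ← e, Category.assoc, a.mul_act]
    simp only [AutSch.famOf, lift_lift_associator_hom_assoc, lift_whiskerLeft_assoc, comp_lift_assoc,
      AutSch.endOf_fst, AutSch.endOf_snd_assoc]
  · simp

theorem endOf_inv_comp {T : Over S} (g : T ⟶ G) :
    AutSch.endOf (AutSch.famOf a g⁻¹) ≫ AutSch.endOf (AutSch.famOf a g) = 𝟙 _ := by
  rw [endOf_comp, mul_inv_cancel, famOf_one]
  apply CartesianMonoidalCategory.hom_ext <;> simp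

theorem isAutFamily_famOf {T : Over S} (g : T ⟶ G) : AutSch.IsAutFamily (AutSch.famOf a g) := by
  refine ⟨AutSch.endOf (AutSch.famOf a g⁻¹), ?_, endOf_inv_comp a g⟩
  simpa using endOf_inv_comp a g⁻¹

theorem famOf_eq_whisker {T : Over S} (g : T ⟶ G) :
    AutSch.famOf a g = lift (snd X T) (fst X T) ≫ (g ▷ X) ≫ a.act := by
  rw [AutSch.famOf, lift_whiskerRight_assoc]

theorem famOf_act (T : Over S) (φ : X ⊗ T ⟶ X) {g : T ⟶ G} (h : (g ▷ X) ≫ a.act = lift (snd T X) (fst T X) ≫ φ) :
    AutSch.famOf a g = φ := by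
  rw [famOf_eq_whisker, h, comp_lift_assoc, lift_snd, lift_fst]
  simp

/-- descended families compose -/
theorem desc_endOf {Y T : Over S} (f : X ⟶ Y) (φ : X ⊗ T ⟶ X) (ψ : Y ⊗ T ⟶ Y) :
    AutSch.endOf φ ≫ (f ▷ T) = (f ▷ T) ≫ AutSch.endOf ψ ↔ (f ▷ T) ≫ ψ = φ ≫ f := by
  constructor
  · intro h
    have h1 := congrArg (· ≫ fst Y T) h
    simpa using h1.symm
  · intro h
    apply CartesianMonoidalCategory.hom_ext
    · simp [h]
    · simp

end Act

section Field

variable {k : Type u} [Field k] {X Y : Over (Spec (CommRingCat.of k))} (f : X ⟶ Y)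

theorem isPullback_whiskerRight (T : Over (Spec (CommRingCat.of k))) :
    IsPullback (fst X T).left (f ▷ T).left f.left (fst Y T).left := by
  refine IsPullback.of_bot (v₂₁ := (snd Y T).left) (v₂₂ := Y.hom) (h₃₁ := T.hom) ?_
    (congrArg CommaMorphism.left (whiskerRight_fst f T)).symm (IsPullback.of_hasPullback Y.hom T.hom)
  rw [show (f ▷ T).left ≫ (snd Y T).left = (snd X T).left from
    congrArg CommaMorphism.left (whiskerRight_snd f T), Over.w f]
  exact IsPullback.of_hasPullback X.hom T.hom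

theorem isIso_app_whiskerRight [IsProper f.left] (hf : ∀ U : Y.left.Opens, IsIso (f.left.app U))
    (T : Over (Spec (CommRingCat.of k))) (U : (Y ⊗ T).left.Opens) : IsIso ((f ▷ T).left.app U) := by
  haveI : Flat T.hom := inferInstance
  haveI : Flat (fst Y T).left := inferInstanceAs (Flat (pullback.fst Y.hom T.hom))
  exact Groth.L07.ParaF.isIso_app_ascent (isPullback_whiskerRight f T) hf U

theorem isProper_whiskerRight [IsProper f.left] (T : Over (Spec (CommRingCat.of k))) : IsProper (f ▷ T).left :=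
  MorphismProperty.of_isPullback (P := @IsProper) (isPullback_whiskerRight f T) ‹_›

variable [IsProper f.left] (hf : ∀ U : Y.left.Opens, IsIso (f.left.app U))

include hf in
/-- Morphisms out of `Y ⊗ T` agree if they do on `X ⊗ T`. -/
theorem hom_ext_whiskerRight {T Z : Over (Spec (CommRingCat.of k))} [IsSeparated Z.hom] {a b : Y ⊗ T ⟶ Z}
    (h : (f ▷ T) ≫ a = (f ▷ T) ≫ b) : a = b := by
  haveI : Z.left.IsSeparated := ⟨by
    rw [← terminal.comp_from Z.hom]; infer_instance⟩
  exact Over.OverMorphism.ext (hom_ext_of_isIso_app (f ▷ T).left (isIso_app_whiskerRight f hf T)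
    (congrArg CommaMorphism.left h))

/-- `X ×_Y X` -/
def sq : Over (Spec (CommRingCat.of k)) := Over.mk (pullback.fst f.left f.left ≫ X.hom)

def sqFst : sq f ⟶ X := Over.homMk (pullback.fst f.left f.left) rfl

def sqSnd : sq f ⟶ X := Over.homMk (pullback.snd f.left f.left) (by
  show pullback.snd f.left f.left ≫ X.hom = pullback.fst f.left f.left ≫ X.hom
  rw [← Over.w f, pullback.condition_assoc])

omit [IsProper f.left] in
theorem sq_comp : sqFst f ≫ f = sqSnd f ≫ f := Over.OverMorphism.ext pullback.condition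

include hf in
/-- A morphism on `X ⊗ T` descends to `Y ⊗ T` iff it equalises `X ×_Y X ⊗ T`. -/
theorem descends_iff {T Z : Over (Spec (CommRingCat.of k))} [IsSeparated Z.hom] (F : X ⊗ T ⟶ Z) :
    (∃ G : Y ⊗ T ⟶ Z, (f ▷ T) ≫ G = F) ↔ (sqFst f ▷ T) ≫ F = (sqSnd f ▷ T) ≫ F := by
  constructor
  · rintro ⟨G, rfl⟩
    rw [← Category.assoc, ← Category.assoc, ← comp_whiskerRight, ← comp_whiskerRight, sq_comp]
  · intro h
    haveI : Z.left.IsSeparated := ⟨by
      rw [← terminal.comp_from Z.hom]; infer_instance⟩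
    haveI := isProper_whiskerRight f T
    let q := (f ▷ T).left
    obtain ⟨G, hG⟩ := exists_factor q (isIso_app_whiskerRight f hf T) F.left (fun p₁ p₂ hp => by
      obtain ⟨z, hz₁, hz₂⟩ := Scheme.Pullback.exists_preimage_pullback (f := q) (g := q) p₁ p₂ hp
      let R : Over (Spec (CommRingCat.of k)) := Over.mk (pullback.fst q q ≫ (X ⊗ T).hom)
      let r₁ : R ⟶ X ⊗ T := Over.homMk (pullback.fst q q) rfl
      let r₂ : R ⟶ X ⊗ T := Over.homMk (pullback.snd q q) (by
        show pullback.snd q q ≫ (X ⊗ T).hom = pullback.fst q q ≫ (X ⊗ T).hom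
        rw [← Over.w (f ▷ T)]
        exact (Category.assoc _ _ _).symm.trans ((congrArg (· ≫ (Y ⊗ T).hom) pullback.condition.symm).trans
          (Category.assoc _ _ _)))
      have hr : r₁ ≫ (f ▷ T) = r₂ ≫ (f ▷ T) := Over.OverMorphism.ext pullback.condition
      have hX : (r₁ ≫ fst X T) ≫ f = (r₂ ≫ fst X T) ≫ f := by
        have := congrArg (· ≫ fst Y T) hr
        simpa using this
      have hT : r₁ ≫ snd X T = r₂ ≫ snd X T := by
        have := congrArg (· ≫ snd Y T) hr
        simpa using this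
      let w : R ⟶ sq f := Over.homMk (pullback.lift (r₁ ≫ fst X T).left (r₂ ≫ fst X T).left
        (congrArg CommaMorphism.left hX)) (by
          show pullback.lift _ _ _ ≫ pullback.fst f.left f.left ≫ X.hom = R.hom
          rw [pullback.lift_fst_assoc]
          exact Over.w (r₁ ≫ fst X T))
      let m : R ⟶ sq f ⊗ T := lift w (r₁ ≫ snd X T)
      have hw₁ : w ≫ sqFst f = r₁ ≫ fst X T := Over.OverMorphism.ext (pullback.lift_fst _ _ _)
      have hw₂ : w ≫ sqSnd f = r₂ ≫ fst X T := Over.OverMorphism.ext (pullback.lift_snd _ _ _)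
      have hm₁ : m ≫ (sqFst f ▷ T) = r₁ := by
        apply CartesianMonoidalCategory.hom_ext <;> simp [m, hw₁]
      have hm₂ : m ≫ (sqSnd f ▷ T) = r₂ := by
        apply CartesianMonoidalCategory.hom_ext <;> simp [m, hw₂, hT]
      have h2 : r₁ ≫ F = r₂ ≫ F := by rw [← hm₁, ← hm₂, Category.assoc, Category.assoc, h]
      have h3 := congrArg (fun φ => φ.left z) h2
      simp only [Over.comp_left, Scheme.Hom.comp_apply] at h3
      rw [← hz₁, ← hz₂]
      exact h3)
    have hw : G ≫ Z.hom = (Y ⊗ T).hom :=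
      hom_ext_of_isIso_app q (isIso_app_whiskerRight f hf T) (by
        rw [reassoc_of% hG, Over.w F]; exact (Over.w (f ▷ T)).symm)
    exact ⟨Over.homMk G hw, Over.OverMorphism.ext hG⟩

variable {G : Over (Spec (CommRingCat.of k))} [GrpObj G] (a : AlgGrp.Action G X)

/-- The automorphism of a point descends. -/
def Desc {T : Over (Spec (CommRingCat.of k))} (g : T ⟶ G) : Prop :=
  ∃ ψ : Y ⊗ T ⟶ Y, AutSch.IsAutFamily ψ ∧ (f ▷ T) ≫ ψ = AutSch.famOf a g ≫ f

include hf in
/-- A point descends to an automorphism as soon as it and its inverse descend. -/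
theorem desc_iff [IsSeparated Y.hom] {T : Over (Spec (CommRingCat.of k))} (g : T ⟶ G) :
    Desc f a g ↔ (∃ ψ, (f ▷ T) ≫ ψ = AutSch.famOf a g ≫ f) ∧ ∃ ψ, (f ▷ T) ≫ ψ = AutSch.famOf a g⁻¹ ≫ f := by
  constructor
  · rintro ⟨ψ, hψ, h⟩
    refine ⟨⟨ψ, h⟩, ?_⟩
    haveI : IsIso (AutSch.endOf ψ) := hψ
    refine ⟨inv (AutSch.endOf ψ) ≫ fst Y T, ?_⟩
    have h1 : AutSch.endOf (AutSch.famOf a g⁻¹) ≫ (f ▷ T) = (f ▷ T) ≫ inv (AutSch.endOf ψ) := by
      rw [IsIso.eq_comp_inv, Category.assoc, ← (desc_endOf f _ ψ).2 h, reassoc_of% (endOf_inv_comp a g)]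
    rw [← reassoc_of% h1, whiskerRight_fst, AutSch.endOf_fst_assoc]
  · rintro ⟨⟨ψ, h⟩, ⟨ψ', h'⟩⟩
    haveI : IsProper (f ▷ T).left := isProper_whiskerRight f T
    refine ⟨ψ, ⟨AutSch.endOf ψ', ?_, ?_⟩, h⟩
    · have h1 : (f ▷ T) ≫ AutSch.endOf ψ ≫ AutSch.endOf ψ' = (f ▷ T) ≫ 𝟙 _ := by
        rw [← reassoc_of% (desc_endOf f _ ψ).2 h, ← (desc_endOf f _ ψ').2 h', ← Category.assoc]
        rw [show AutSch.endOf (AutSch.famOf a g) ≫ AutSch.endOf (AutSch.famOf a g⁻¹) = 𝟙 _ by
          simpa using endOf_inv_comp a g⁻¹]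
        simp
      apply CartesianMonoidalCategory.hom_ext
      · exact hom_ext_whiskerRight f hf (by simpa using congrArg (· ≫ fst Y T) h1)
      · simp
    · have h1 : (f ▷ T) ≫ AutSch.endOf ψ' ≫ AutSch.endOf ψ = (f ▷ T) ≫ 𝟙 _ := by
        rw [← reassoc_of% (desc_endOf f _ ψ').2 h', ← (desc_endOf f _ ψ).2 h, ← Category.assoc,
          endOf_inv_comp]
        simp
      apply CartesianMonoidalCategory.hom_ext
      · exact hom_ext_whiskerRight f hf (by simpa using congrArg (· ≫ fst Y T) h1)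
      · simp

include hf in
/-- **The descending automorphisms form a closed subscheme.** -/
theorem exists_descLocus [IsSeparated Y.hom] :
    ∃ (D : Over (Spec (CommRingCat.of k))) (d : D ⟶ G), IsClosedImmersion d.left ∧
      ∀ (T : Over (Spec (CommRingCat.of k))) (g : T ⟶ G), (∃ z, z ≫ d = g) ↔ Desc f a g := by
  let F : X ⊗ G ⟶ Y := AutSch.famOf a (𝟙 G) ≫ f
  obtain ⟨D₀, d₀, hd₀, hD⟩ := Groth.L08.FactorLocus.exists_closedImmersion_agree
    ((sqFst f ▷ G) ≫ F) ((sqSnd f ▷ G) ≫ F)
  have key : ∀ (T : Over (Spec (CommRingCat.of k))) (g : T ⟶ G),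
      (∃ z, z ≫ d₀ = g) ↔ ∃ ψ, (f ▷ T) ≫ ψ = AutSch.famOf a g ≫ f := fun T g => by
    have e : AutSch.famOf a g ≫ f = (X ◁ g) ≫ F := by
      simp only [F]
      rw [← Category.assoc]
      congr 1
      simpa [AutSch.pullFam] using AutSch.famOf_comp a g (𝟙 G)
    rw [descends_iff f hf (AutSch.famOf a g ≫ f), e, hD]
    simp only [← Category.assoc, ← whisker_exchange]
  let d₁ : Over.mk (pullback.fst (ι[G]).left d₀.left ≫ G.hom) ⟶ G :=
    Over.homMk (pullback.fst (ι[G]).left d₀.left) rfl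
  haveI : IsClosedImmersion d₁.left := inferInstanceAs (IsClosedImmersion (pullback.fst (ι[G]).left d₀.left))
  let D := Over.mk (pullback.fst d₁.left d₀.left ≫ d₁.left ≫ G.hom)
  let d : D ⟶ G := Over.homMk (pullback.fst d₁.left d₀.left ≫ d₁.left) (Category.assoc _ _ _)
  refine ⟨D, d, inferInstanceAs (IsClosedImmersion (pullback.fst d₁.left d₀.left ≫ d₁.left)), fun T g => ?_⟩
  rw [desc_iff f hf a g, ← key T g, ← key T g⁻¹]
  constructor
  · rintro ⟨z, rfl⟩
    refine ⟨⟨Over.homMk (z.left ≫ pullback.snd d₁.left d₀.left) ?_, Over.OverMorphism.ext ?_⟩,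
      ⟨Over.homMk (z.left ≫ pullback.fst d₁.left d₀.left ≫ pullback.snd (ι[G]).left d₀.left) ?_,
        Over.OverMorphism.ext ?_⟩⟩
    · show (z.left ≫ pullback.snd d₁.left d₀.left) ≫ D₀.hom = T.hom
      rw [Category.assoc, ← Over.w d₀, ← pullback.condition_assoc]
      exact Over.w z
    · show (z.left ≫ pullback.snd d₁.left d₀.left) ≫ d₀.left = z.left ≫ d.left
      rw [Category.assoc, ← pullback.condition]
      rfl
    · show (z.left ≫ pullback.fst d₁.left d₀.left ≫ pullback.snd (ι[G]).left d₀.left) ≫ D₀.hom = T.hom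
      rw [Category.assoc, Category.assoc, ← Over.w d₀, ← pullback.condition_assoc, Over.w ι[G]]
      exact Over.w z
    · show (z.left ≫ pullback.fst d₁.left d₀.left ≫ pullback.snd (ι[G]).left d₀.left) ≫ d₀.left = _
      rw [Category.assoc, Category.assoc, ← pullback.condition, Hom.inv_def]
      simp [d, d₁]
  · rintro ⟨⟨z₁, hz₁⟩, ⟨z₂, hz₂⟩⟩
    have e₂ : g.left ≫ (ι[G]).left = z₂.left ≫ d₀.left := by
      have := congrArg CommaMorphism.left hz₂.symm
      rw [Hom.inv_def] at this
      exact this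
    refine ⟨Over.homMk (pullback.lift (pullback.lift g.left z₂.left e₂) z₁.left ?_) ?_, Over.OverMorphism.ext ?_⟩
    · show pullback.lift g.left z₂.left e₂ ≫ pullback.fst (ι[G]).left d₀.left = _
      rw [pullback.lift_fst]
      exact (congrArg CommaMorphism.left hz₁).symm
    · show pullback.lift _ _ _ ≫ pullback.fst d₁.left d₀.left ≫ pullback.fst (ι[G]).left d₀.left ≫ G.hom = T.hom
      rw [pullback.lift_fst_assoc, pullback.lift_fst_assoc]
      exact Over.w g
    · show pullback.lift _ _ _ ≫ pullback.fst d₁.left d₀.left ≫ pullback.fst (ι[G]).left d₀.left = g.left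
      rw [pullback.lift_fst_assoc, pullback.lift_fst]

end Field

end Groth.L17.AutFac
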