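import Groth.Agent.L07.RatStalk
import Groth.Agent.L07.ParaF.Ascend
import Mathlib.AlgebraicGeometry.Morphisms.Proper

/-!
# Factoring through a proper morphism with trivial direct image

A morphism from the source of a closed surjection `q` with `q_* O = O` to a separated scheme factors through
`q` as soon as it is constant on the fibres of `q`.
-/

set_option autoImplicit false
set_option linter.style.haveILetI false
set_option backward.isDefEq.respectTransparency.types false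

universe u

open CategoryTheory CategoryTheory.Limits AlgebraicGeometry TopologicalSpace
open Groth.L02.SchDom

noncomputable section

namespace Groth.L17.AutFac

variable {P Q Y : Scheme.{u}} (q : P ⟶ Q)

theorem dom_of_isIso_app (h : ∀ U : Q.Opens, IsIso (q.app U)) : Dom (fun _ : PUnit.{u + 1} => q) := by
  intro V t ht
  haveI := h V
  exact (ConcreteCategory.bijective_of_isIso (q.app V)).injective ((ht ⟨⟩).trans (map_zero _).symm)

theorem surjective_of_isIso_app [UniversallyClosed q] (h : ∀ U : Q.Opens, IsIso (q.app U)) : Surjective q := by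
  refine ⟨fun y => ?_⟩
  let U : Q.Opens := ⟨(Set.range q)ᶜ, q.isClosedMap.isClosed_range.isOpen_compl⟩
  by_contra hy
  have hb : q ⁻¹ᵁ U = ⊥ := Opens.ext (Set.ext fun z => iff_of_false (fun hz => hz ⟨z, rfl⟩) (fun hz => hz.elim))
  haveI : Subsingleton Γ(P, q ⁻¹ᵁ U) := by rw [hb]; infer_instance
  have h0 : (1 : Γ(Q, U)) = 0 := dom_of_isIso_app q h U 1 fun _ => Subsingleton.elim _ _
  have h1 : (Q.presheaf.germ U y hy).hom 1 = (Q.presheaf.germ U y hy).hom 0 := congrArg _ h0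
  rw [map_one, map_zero] at h1
  exact one_ne_zero h1

/-- Morphisms into a separated scheme agree if they do after composing with `q`. -/
theorem hom_ext_of_isIso_app [Y.IsSeparated] (h : ∀ U : Q.Opens, IsIso (q.app U)) {a b : Q ⟶ Y}
    (hab : q ≫ a = q ≫ b) : a = b :=
  Groth.L07.RatStalk.eq_of_dom (terminal.from Y) q (dom_of_isIso_app q h) a b (terminal.hom_ext _ _) hab

/-- A local factorisation over an open `D` of the target. -/
theorem exists_local (h : ∀ U : Q.Opens, IsIso (q.app U)) (F : P ⟶ Y) {V : Y.Opens} (hV : IsAffineOpen V)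
    (D : Q.Opens) (hD : q ⁻¹ᵁ D ≤ F ⁻¹ᵁ V) :
    ∃ g : (D : Scheme.{u}) ⟶ Y, (q ∣_ D) ≫ g = (q ⁻¹ᵁ D).ι ≫ F := by
  haveI : IsAffine (V : Scheme.{u}) := hV
  haveI : IsIso (q ∣_ D).appTop := by
    rw [Scheme.Hom.appTop, morphismRestrict_app]
    haveI := h (D.ι ''ᵁ ⊤)
    exact IsIso.comp_isIso' (h _) (Functor.map_isIso _ _)
  let F' : ((q ⁻¹ᵁ D : P.Opens) : Scheme.{u}) ⟶ (V : Scheme.{u}) := F.resLE V (q ⁻¹ᵁ D) hD
  refine ⟨(D : Scheme.{u}).toSpecΓ ≫ Spec.map (F'.appTop ≫ inv (q ∣_ D).appTop) ≫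
    (V : Scheme.{u}).isoSpec.inv ≫ V.ι, ?_⟩
  rw [Scheme.toSpecΓ_naturality_assoc, ← Spec.map_comp_assoc, Category.assoc, IsIso.inv_hom_id, Category.comp_id,
    ← Scheme.toSpecΓ_naturality_assoc, Scheme.toSpecΓ_isoSpec_inv_assoc, Scheme.Hom.resLE_comp_ι]

theorem local_comp {D : Q.Opens} {g : (D : Scheme.{u}) ⟶ Y} {F : P ⟶ Y}
    (hg : (q ∣_ D) ≫ g = (q ⁻¹ᵁ D).ι ≫ F) {T : Scheme.{u}} (a : T ⟶ P) (b : T ⟶ (D : Scheme.{u}))
    (e : a ≫ q = b ≫ D.ι) : b ≫ g = a ≫ F := by
  have sq := isPullback_morphismRestrict q D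
  let c := sq.lift b a e.symm
  have h1 : c ≫ (q ∣_ D) = b := sq.lift_fst _ _ _
  have h2 : c ≫ (q ⁻¹ᵁ D).ι = a := sq.lift_snd _ _ _
  rw [← h1, Category.assoc, hg, ← Category.assoc, h2]

/-- **Factorisation.** A morphism constant on the fibres of a proper `q` with `q_* O = O` factors through `q`. -/
theorem exists_factor [IsProper q] [Y.IsSeparated] (h : ∀ U : Q.Opens, IsIso (q.app U)) (F : P ⟶ Y)
    (hconst : ∀ a b : P, q a = q b → F a = F b) : ∃ G : Q ⟶ Y, q ≫ G = F := by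
  haveI := surjective_of_isIso_app q h
  let D : Y.affineOpens → Q.Opens := fun V => ⟨(q '' ((F ⁻¹ᵁ V.1 : Set P))ᶜ)ᶜ,
    (q.isClosedMap _ (F ⁻¹ᵁ V.1).isOpen.isClosed_compl).isOpen_compl⟩
  have hD : ∀ V, q ⁻¹ᵁ D V ≤ F ⁻¹ᵁ V.1 := fun V p hp => by_contra fun hc => hp ⟨p, hc, rfl⟩
  have hcov : IsOpenCover D := by
    refine IsOpenCover.mk (eq_top_iff.2 fun y _ => ?_)
    obtain ⟨p, rfl⟩ := q.surjective y
    obtain ⟨V, hV, hpV, -⟩ := exists_isAffineOpen_mem_and_subset (U := (⊤ : Y.Opens)) (x := F p) trivial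
    refine Opens.mem_iSup.2 ⟨⟨V, hV⟩, ?_⟩
    rintro ⟨p', hp', he⟩
    exact hp' (show F p' ∈ V from (hconst p' p he).symm ▸ hpV)
  choose g hg using fun V : Y.affineOpens => exists_local q h F V.2 (D V) (hD V)
  let 𝒰 := Q.openCoverOfIsOpenCover D hcov
  have hc : ∀ i j, pullback.fst (𝒰.f i) (𝒰.f j) ≫ g i = pullback.snd (𝒰.f i) (𝒰.f j) ≫ g j := by
    intro i j
    let t := pullback.fst (𝒰.f i) (𝒰.f j) ≫ 𝒰.f i
    haveI : Flat t := inferInstance
    refine hom_ext_of_isIso_app (pullback.snd q t)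
      (Groth.L07.ParaF.isIso_app_ascent (IsPullback.of_hasPullback q t) h) ?_
    refine (Category.assoc _ _ _).symm.trans (Eq.trans ?_ (Category.assoc _ _ _))
    refine (local_comp q (hg i) (pullback.fst q t) (pullback.snd q t ≫ pullback.fst _ _) ?_).trans
      (local_comp q (hg j) (pullback.fst q t) (pullback.snd q t ≫ pullback.snd _ _) ?_).symm
    · exact pullback.condition.trans (Category.assoc _ _ _).symm
    · exact (pullback.condition.trans (congrArg (_ ≫ ·) pullback.condition)).trans (Category.assoc _ _ _).symm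
  refine ⟨𝒰.glueMorphisms g hc, ?_⟩
  refine Scheme.Cover.hom_ext (𝒰.pullback₁ q) _ _ fun i => ?_
  show pullback.fst q (𝒰.f i) ≫ q ≫ _ = pullback.fst q (𝒰.f i) ≫ F
  rw [pullback.condition_assoc, Scheme.Cover.ι_glueMorphisms]
  exact local_comp q (hg i) (pullback.fst q (𝒰.f i)) (pullback.snd q (𝒰.f i)) pullback.condition

end Groth.L17.AutFac
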