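import Groth.Agent.L17.AutFac.Descend
import Groth.Agent.L15.GenSub.Dom
import Groth.Agent.L16.ProjSpace.Basic
import Groth.Prelude.Def_RelProj

/-!
# Lifts of families of automorphisms along a birational morphism are unique
-/

set_option autoImplicit false
set_option linter.style.haveILetI false
set_option backward.isDefEq.respectTransparency.types false

universe u

open CategoryTheory CategoryTheory.Limits MonoidalCategory CartesianMonoidalCategory MonObj GrpObj AlgebraicGeometry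
open Groth.L02.SchDom

noncomputable section

namespace Groth.L17.AutFac

theorem isProper_of_isHProjective {X S : Scheme.{u}} {g : X ⟶ S} (h : RelProj.IsHProjective g) : IsProper g := by
  obtain ⟨n, i, hi, rfl⟩ := h
  infer_instance

theorem famOf_comp_hom {S : Scheme.{u}} {X G H T : Over S} [GrpObj G] [GrpObj H] (a : AlgGrp.Action G X)
    (b : AlgGrp.Action H X) (ρ : H ⟶ G) (hρ : (ρ ▷ X) ≫ a.act = b.act) (h : T ⟶ H) :
    AutSch.famOf a (h ≫ ρ) = AutSch.famOf b h := by
  rw [AutSch.famOf, AutSch.famOf, ← hρ, lift_whiskerRight_assoc, Category.assoc]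

theorem dom_comp_of_isIso {Z Z' X : Scheme.{u}} {q : Z ⟶ X} (H : Dom fun _ : PUnit.{u + 1} => q) (e : Z' ⟶ Z)
    [IsIso e] : Dom fun _ : PUnit.{u + 1} => e ≫ q :=
  Groth.L15.GenSub.dom_iso_comp H (fun _ => e) fun _ => rfl

theorem dom_comp_isIso {Z X X' : Scheme.{u}} {q : Z ⟶ X} (H : Dom fun _ : PUnit.{u + 1} => q) (e : X ⟶ X')
    [IsIso e] : Dom fun _ : PUnit.{u + 1} => q ≫ e := by
  intro V t ht
  apply (ConcreteCategory.bijective_of_isIso (e.app V)).injective
  rw [map_zero]
  refine H _ _ fun i => ?_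
  have := ht i
  rw [Scheme.Hom.comp_app] at this
  exact this

variable {k : Type u} [Field k] {X Y : Over (Spec (CommRingCat.of k))} [IsIntegral X.left]
  [IsSeparated X.hom] (f : X ⟶ Y)

/-- Two families of endomorphisms of `X` with the same composite with a birational `f` agree, as soon as one
of them is a family of automorphisms. -/
theorem family_ext (U : Y.left.Opens) (hne : (f.left ⁻¹ᵁ U : Set X.left).Nonempty) [IsIso (f.left ∣_ U)]
    {T : Over (Spec (CommRingCat.of k))} {φ φ' : X ⊗ T ⟶ X} (hφ : AutSch.IsAutFamily φ)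
    (h : φ ≫ f = φ' ≫ f) : φ = φ' := by
  let W : Over (Spec (CommRingCat.of k)) := Over.mk ((f.left ⁻¹ᵁ U).ι ≫ X.hom)
  let w : W ⟶ X := Over.homMk (f.left ⁻¹ᵁ U).ι rfl
  have hw : Dom fun _ : PUnit.{u + 1} => w.left := by
    refine Groth.L15.GenSub.dom_of_dense ?_
    rw [Set.iUnion_const]
    show Dense (Set.range (f.left ⁻¹ᵁ U).ι)
    rw [Scheme.Opens.range_ι]
    exact (f.left ⁻¹ᵁ U).isOpen.dense hne
  haveI : IsIso (AutSch.endOf φ) := hφ
  let q : W ⊗ T ⟶ X ⊗ T := (w ▷ T) ≫ inv (AutSch.endOf φ)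
  haveI : IsIso (inv (AutSch.endOf φ)).left := (Over.forget _).map_isIso (inv (AutSch.endOf φ))
  have hq : Dom fun _ : PUnit.{u + 1} => q.left :=
    dom_comp_isIso (Groth.L15.GenSub.dom_whiskerRight (fun _ : PUnit.{u + 1} => w) hw T) _
  have h1 : q ≫ φ = fst W T ≫ w := by
    calc q ≫ φ = q ≫ AutSch.endOf φ ≫ fst X T := congrArg (q ≫ ·) (AutSch.endOf_fst φ).symm
      _ = fst W T ≫ w := by simp only [q, Category.assoc, IsIso.inv_hom_id_assoc, whiskerRight_fst]
  refine Over.OverMorphism.ext (Groth.L07.RatStalk.eq_of_dom X.hom q.left hq φ.left φ'.left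
    ((Over.w φ).trans (Over.w φ').symm) ?_)
  have h2 : (q ≫ φ').left ≫ f.left = ((fst W T).left ≫ (f.left ⁻¹ᵁ U).ι) ≫ f.left := by
    have h3 : (q ≫ φ') ≫ f = (fst W T ≫ w) ≫ f :=
      ((Category.assoc q φ' f).trans ((congrArg (q ≫ ·) h).symm.trans (Category.assoc q φ f).symm)).trans
        (congrArg (· ≫ f) h1)
    exact congrArg CommaMorphism.left h3
  have hr : Set.range (q ≫ φ').left ⊆ Set.range (f.left ⁻¹ᵁ U).ι := by
    rintro _ ⟨z, rfl⟩
    rw [Scheme.Opens.range_ι]
    show f.left ((q ≫ φ').left z) ∈ U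
    rw [← Scheme.Hom.comp_apply, h2, Scheme.Hom.comp_apply]
    exact ((fst W T).left z).2
  let l := IsOpenImmersion.lift (f.left ⁻¹ᵁ U).ι (q ≫ φ').left hr
  have hl : l ≫ (f.left ⁻¹ᵁ U).ι = (q ≫ φ').left := IsOpenImmersion.lift_fac _ _ _
  have hl2 : l = (fst W T).left := by
    rw [← cancel_mono (f.left ∣_ U), ← cancel_mono U.ι, Category.assoc, Category.assoc, morphismRestrict_ι,
      reassoc_of% hl]
    exact h2.trans (Category.assoc _ _ _)
  calc q.left ≫ φ.left = (fst W T ≫ w).left := congrArg CommaMorphism.left h1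
    _ = l ≫ (f.left ⁻¹ᵁ U).ι := by rw [hl2]; rfl
    _ = q.left ≫ φ'.left := hl

end Groth.L17.AutFac
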